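import Cfsg.Agent.Spor.C3VM.L.D0

set_option autoImplicit false
set_option maxRecDepth 100000000
set_option Elab.async false

namespace Cfsg.Agent.Spor.C3VM.L

theorem uok8 : Net.okb 7 un8 = true := by decide +kernel

theorem rel3 : U.rel 7 [17, 1, 3, 5, 7, 5, 7, 1, 5, 3, 7, 1, 5, 7, 1, 3, 7, 5, 3] 0 7 = true := by decide +kernel

theorem uok9 : Net.okb 7 un9 = true := by decide +kernel

theorem rel4 : U.rel 7 [19, 5, 3, 5, 3, 5, 1, 3, 7, 7, 1, 3] 0 7 = true := by decide +kernel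

theorem uok10 : Net.okb 7 un10 = true := by decide +kernel

theorem rel5 : U.rel 7 [21, 3, 5, 1, 5, 1, 3, 5, 3, 1, 5, 7, 1, 7, 5, 1, 5, 7, 3, 7, 1, 3, 1, 3, 5, 7, 3, 5, 7, 3, 5, 7, 3, 7, 1, 3, 1, 5, 3] 0 7 = true := by decide +kernel

theorem gr7 : sub M6 (U.growI W1 [0, 1, 2, 3, 2, 1, 0, 1, 2, 3, 1] (Nat.shiftLeft 1 0)) = true := by decide +kernel

theorem cl9 : band (U.closedW W1 M6) (sub (Nat.shiftLeft 1 0) M6) = true := by decide +kernel

theorem sz10 : sizeOk 7 M6 72 = true := by decide +kernel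

theorem fx13 : U.closedW W12 (Nat.shiftLeft 1 0) = true := by decide +kernel

theorem uok11 : Net.okb 7 un11 = true := by decide +kernel

theorem rel14 : U.rel 7 [23, 17, 21, 19, 21, 17, 17, 19, 17, 19, 19, 17, 21, 19, 19, 21, 21, 17, 19, 17, 17, 19, 19, 17, 21, 19, 19, 21, 17] 0 7 = true := by decide +kernel

theorem uok12 : Net.okb 7 un12 = true := by decide +kernel

theorem rel15 : U.rel 7 [25, 21, 19, 19, 21, 19, 21, 21, 17, 19, 17, 17, 17, 21, 17, 21, 17, 19, 17, 19, 21, 19, 19, 21, 17, 17, 21, 19, 17, 21, 17, 21, 17, 17, 19, 17, 21, 17] 0 7 = true := by decide +kernel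

theorem gr17 : sub M16 (U.growI W12 [0, 1, 2, 2, 1, 0, 1, 2, 2, 1, 0] (Nat.shiftLeft 1 1)) = true := by decide +kernel

theorem cl19 : band (U.closedW W12 M16) (sub (Nat.shiftLeft 1 1) M16) = true := by decide +kernel

theorem sz20 : sizeOk 7 M16 48 = true := by decide +kernel

theorem fx23 : U.closedW W22 (Nat.shiftLeft 1 1) = true := by decide +kernel

theorem gr25 : sub M24 (U.growI W22 [0, 1, 0, 0] (Nat.shiftLeft 1 2)) = true := by decide +kernel

theorem cl27 : band (U.closedW W22 M24) (sub (Nat.shiftLeft 1 2) M24) = true := by decide +kernel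

theorem sz28 : sizeOk 7 M24 8 = true := by decide +kernel

end Cfsg.Agent.Spor.C3VM.L
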