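import Cfsg.Agent.Spor.Prim
import Cfsg.Agent.Spor.C3VM.Main
import Cfsg.Agent.Spor.C3VM.L.C0
import Cfsg.Agent.Spor.TT2

set_option autoImplicit false
set_option maxRecDepth 100000000
set_option Elab.async false

namespace Cfsg.Agent.Spor.C3VM.L

theorem hU : U.Ok 7 := U.ok_of 7 (show AllP (fun n => Net.okb 7 n = true) [n0, n1, n2, n3, n4, n5, n6, n7, un8, un9, un10, un11, un12] from AllP.cons ok0 (AllP.cons ok1 (AllP.cons ok2 (AllP.cons ok3 (AllP.cons ok4 (AllP.cons ok5 (AllP.cons ok6 (AllP.cons ok7 (AllP.cons uok8 (AllP.cons uok9 (AllP.cons uok10 (AllP.cons uok11 (AllP.cons uok12 (AllP.nil))))))))))))))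

theorem hfP : ∀ j < 4, U.fP [1, 3, 5, 7] j = fP j := by
  intro j hj
  interval_cases j <;> rfl
theorem eG : gsub 4 fP = U.lsub W1 := (gsub_congr hfP).symm.trans (lsub_eq_gsub U [1, 3, 5, 7])
theorem upz1 : ev (atm 4 fP) [0] = U.τ 1 := pz1
theorem upz3 : ev (atm 4 fP) [2] = U.τ 3 := pz2
theorem upz5 : ev (atm 4 fP) [4] = U.τ 5 := pz3
theorem upz7 : ev (atm 4 fP) [6] = U.τ 7 := pz4
theorem upz9 : ev (atm 4 fP) [4, 6, 4] = U.τ 9 := pz5
theorem upz11 : ev (atm 4 fP) [0, 6, 0, 6, 0] = U.τ 11 := pz7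
theorem upz13 : ev (atm 4 fP) [2, 6, 4, 6, 2] = U.τ 13 := pz9
theorem upz15 : ev (atm 4 fP) [2, 6, 2, 6, 2, 4] = U.τ 15 := pz11
theorem eH : wsub 4 fP BW = U.lsub W2 :=
  lsub_eq_of_all₂ (show List.Forall₂ _ [[6], [4, 6, 4], [0, 6, 0, 6, 0], [2, 6, 4, 6, 2], [2, 6, 2, 6, 2, 4]] [[7], [9], [11], [13], [15]] from List.Forall₂.cons (upz7.trans (one_mul _).symm) (List.Forall₂.cons (upz9.trans (one_mul _).symm) (List.Forall₂.cons (upz11.trans (one_mul _).symm) (List.Forall₂.cons (upz13.trans (one_mul _).symm) (List.Forall₂.cons (upz15.trans (one_mul _).symm) (List.Forall₂.nil))))))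
theorem vpz1 : PZ U (atm 4 fP) EXU 1 := pz1
theorem vpz2 : PZ U (atm 4 fP) EXU 2 := PZ.of_inv hiv vpz1 (by decide +kernel)
theorem vpz3 : PZ U (atm 4 fP) EXU 3 := pz2
theorem vpz4 : PZ U (atm 4 fP) EXU 4 := PZ.of_inv hiv vpz3 (by decide +kernel)
theorem vpz5 : PZ U (atm 4 fP) EXU 5 := pz3
theorem vpz6 : PZ U (atm 4 fP) EXU 6 := PZ.of_inv hiv vpz5 (by decide +kernel)
theorem vpz7 : PZ U (atm 4 fP) EXU 7 := pz4
theorem vpz8 : PZ U (atm 4 fP) EXU 8 := PZ.of_inv hiv vpz7 (by decide +kernel)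
theorem vpz9 : PZ U (atm 4 fP) EXU 9 := pz5
theorem vpz10 : PZ U (atm 4 fP) EXU 10 := PZ.of_inv hiv vpz9 (by decide +kernel)
theorem vpz11 : PZ U (atm 4 fP) EXU 11 := pz7
theorem vpz12 : PZ U (atm 4 fP) EXU 12 := PZ.of_inv hiv vpz11 (by decide +kernel)
theorem vpz13 : PZ U (atm 4 fP) EXU 13 := pz9
theorem vpz14 : PZ U (atm 4 fP) EXU 14 := PZ.of_inv hiv vpz13 (by decide +kernel)
theorem vpz15 : PZ U (atm 4 fP) EXU 15 := pz11
theorem vpz16 : PZ U (atm 4 fP) EXU 16 := PZ.of_inv hiv vpz15 (by decide +kernel)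
theorem hPZU : AllP (PZ U (atm 4 fP) EXU) LU :=
  show AllP (PZ U (atm 4 fP) EXU) [1, 2, 3, 4, 5, 6, 7, 8, 9, 10, 11, 12, 13, 14, 15, 16] from AllP.cons vpz1 (AllP.cons vpz2 (AllP.cons vpz3 (AllP.cons vpz4 (AllP.cons vpz5 (AllP.cons vpz6 (AllP.cons vpz7 (AllP.cons vpz8 (AllP.cons vpz9 (AllP.cons vpz10 (AllP.cons vpz11 (AllP.cons vpz12 (AllP.cons vpz13 (AllP.cons vpz14 (AllP.cons vpz15 (AllP.cons vpz16 (AllP.nil))))))))))))))))
theorem reach8 : Reach (U.lsub W1) 0 M6 := (Reach.grow hU (Reach.base _ 0) gr7)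
theorem orb11 : (orbS (U.lsub W1) 0).ncard = 72 := reach8.ncard hU cl9 sz10
theorem orb11e : orbS (U.lsub W1) 0 = {c | Nat.testBit M6 c = true} := reach8.orb hU cl9
theorem reach18 : Reach (U.lsub W12) 1 M16 := (Reach.grow hU (Reach.base _ 1) gr17)
theorem orb21 : (orbS (U.lsub W12) 1).ncard = 48 := reach18.ncard hU cl19 sz20
theorem orb21e : orbS (U.lsub W12) 1 = {c | Nat.testBit M16 c = true} := reach18.orb hU cl19
theorem reach26 : Reach (U.lsub W22) 2 M24 := (Reach.grow hU (Reach.base _ 2) gr25)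
theorem orb29 : (orbS (U.lsub W22) 2).ncard = 8 := reach26.ncard hU cl27 sz28
theorem orb29e : orbS (U.lsub W22) 2 = {c | Nat.testBit M24 c = true} := reach26.orb hU cl27
theorem lb30 : 8 ∣ Nat.card (U.lsub W22) := dvd_card_orb orb29
theorem lb31 : 384 ∣ Nat.card (U.lsub W12) :=
  dvd_card_step (s := 48) (M := 8) (B := U.lsub W22) (Tab.lsub_le_all (AllP.cons (mem_of_rel (hU.one rel14) (U.mem_letters (by decide))) (AllP.cons (mem_of_rel (hU.one rel15) (U.mem_letters (by decide))) (AllP.nil)))) (hU.fixes fx23) orb21 lb30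
theorem lb : 27648 ∣ Nat.card (U.lsub W1) :=
  dvd_card_step (s := 72) (M := 384) (B := U.lsub W12) (Tab.lsub_le_all (AllP.cons (mem_of_rel (hU.one rel3) (U.mem_letters (by decide))) (AllP.cons (mem_of_rel (hU.one rel4) (U.mem_letters (by decide))) (AllP.cons (mem_of_rel (hU.one rel5) (U.mem_letters (by decide))) (AllP.nil))))) (hU.fixes fx13) orb11 lb31
theorem lbP : 27648 ∣ Nat.card (gsub 4 fP) := by rw [eG]; exact lb

end Cfsg.Agent.Spor.C3VM.L
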