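import Cfsg.Agent.Spor.Chk2
import Cfsg.Agent.Spor.C3VM.D0

set_option autoImplicit false
set_option maxRecDepth 100000000
set_option Elab.async false
noncomputable section

namespace Cfsg.Agent.Spor.C3VM.L

def W1 : List (List Nat) := [[1], [3], [5], [7]]

def W2 : List (List Nat) := [[7], [9], [11], [13], [15]]

def EXU : List (List Nat) := [[], [0], [0], [2], [2], [4], [4], [6], [6], [4, 6, 4], [4, 6, 4], [0, 6, 0, 6, 0], [0, 6, 0, 6, 0], [2, 6, 4, 6, 2], [2, 6, 4, 6, 2], [2, 6, 2, 6, 2, 4], [4, 2, 6, 2, 6, 2]]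
def LU : List Nat := [1, 2, 3, 4, 5, 6, 7, 8, 9, 10, 11, 12, 13, 14, 15, 16]

def um8_0 : Nat := nat_lit 0x10000002401029
def um8_1 : Nat := nat_lit 0x800000000050016f21
def um8_2 : Nat := nat_lit 0x1000000040000088250000801e
def um8_3 : Nat := nat_lit 0x20002006a0079006000c9
def um8_4 : Nat := nat_lit 0x201020c03020509060e02
def um8_5 : Nat := nat_lit 0x10001000111130000100210101
def um8_6 : Nat := nat_lit 0x40001001010154141404044404
def um8_7 : Nat := nat_lit 0x10001000010100010000010101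
def um8_8 : Nat := nat_lit 0x201020403050200020408
def um8_9 : Nat := nat_lit 0x200020008000600480008
def um8_10 : Nat := nat_lit 0x10000000400000882500000c07
def um8_11 : Nat := nat_lit 0x800000000050016f21
def um8_12 : Nat := nat_lit 0x10000002401029
def un8 : Net := Net.cons 64 um8_0 (Net.cons 32 um8_1 (Net.cons 16 um8_2 (Net.cons 8 um8_3 (Net.cons 4 um8_4 (Net.cons 2 um8_5 (Net.cons 1 um8_6 (Net.cons 2 um8_7 (Net.cons 4 um8_8 (Net.cons 8 um8_9 (Net.cons 16 um8_10 (Net.cons 32 um8_11 (Net.cons 64 um8_12 (Net.nil)))))))))))))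

def um9_0 : Nat := nat_lit 0x1000040092000119
def um9_1 : Nat := nat_lit 0x48000000000ad024593
def um9_2 : Nat := nat_lit 0x8000001042000054880000c0f4
def um9_3 : Nat := nat_lit 0x100000004200110063002400a10058
def um9_4 : Nat := nat_lit 0x101010a000f04010c04
def um9_5 : Nat := nat_lit 0x100000000001010023021020102020
def um9_6 : Nat := nat_lit 0x400000400000100145005400011440
def um9_7 : Nat := nat_lit 0x100000000000000100000100000000
def um9_8 : Nat := nat_lit 0x1010102000008000500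
def um9_9 : Nat := nat_lit 0x100000004000010007008c00400018
def um9_10 : Nat := nat_lit 0x8000001042000050ab0000a14c
def um9_11 : Nat := nat_lit 0x480000000008862051b
def um9_12 : Nat := nat_lit 0x1000040092000119
def un9 : Net := Net.cons 64 um9_0 (Net.cons 32 um9_1 (Net.cons 16 um9_2 (Net.cons 8 um9_3 (Net.cons 4 um9_4 (Net.cons 2 um9_5 (Net.cons 1 um9_6 (Net.cons 2 um9_7 (Net.cons 4 um9_8 (Net.cons 8 um9_9 (Net.cons 16 um9_10 (Net.cons 32 um9_11 (Net.cons 64 um9_12 (Net.nil)))))))))))))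

def um10_0 : Nat := nat_lit 0x400100028180427
def um10_1 : Nat := nat_lit 0x400100000000000898c10d0
def um10_2 : Nat := nat_lit 0x660000548b00000d2b
def um10_3 : Nat := nat_lit 0x40000000c80061001900a3
def um10_4 : Nat := nat_lit 0x60201080c02040401040c0d
def um10_5 : Nat := nat_lit 0x20001000101230010132022
def um10_6 : Nat := nat_lit 0x41400001141015140004514
def um10_7 : Nat := nat_lit 0x200000101000110000000
def um10_8 : Nat := nat_lit 0x20001000200040401020004
def um10_9 : Nat := nat_lit 0x600000006800a3005a0007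
def um10_10 : Nat := nat_lit 0x476000094ad00004e8e
def um10_11 : Nat := nat_lit 0x4001000000000008b2b31b6
def um10_12 : Nat := nat_lit 0x400100028180441
def un10 : Net := Net.cons 64 um10_0 (Net.cons 32 um10_1 (Net.cons 16 um10_2 (Net.cons 8 um10_3 (Net.cons 4 um10_4 (Net.cons 2 um10_5 (Net.cons 1 um10_6 (Net.cons 2 um10_7 (Net.cons 4 um10_8 (Net.cons 8 um10_9 (Net.cons 16 um10_10 (Net.cons 32 um10_11 (Net.cons 64 um10_12 (Net.nil)))))))))))))

def M6 : Nat := nat_lit 0xffffffffffffffffff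

def W12 : List (List Nat) := [[17], [19], [21]]

def um11_0 : Nat := nat_lit 0x50007000a1040243
def um11_1 : Nat := nat_lit 0x500070000000000086aa181a
def um11_2 : Nat := nat_lit 0x22ac000026b8000042b0
def um11_3 : Nat := nat_lit 0x3100140049001100000020
def um11_4 : Nat := nat_lit 0x304000403000c0901020a
def um11_5 : Nat := nat_lit 0x201300100022220101122101
def um11_6 : Nat := nat_lit 0x404510000111041544104405
def um11_7 : Nat := nat_lit 0x1000000101001001100100
def um11_8 : Nat := nat_lit 0x20200000400080501000006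
def um11_9 : Nat := nat_lit 0x310004004f003700c80082
def um11_10 : Nat := nat_lit 0x22a80000205800004a70
def um11_11 : Nat := nat_lit 0x500070000000000084a2199e
def um11_12 : Nat := nat_lit 0x50007000a1040243
def un11 : Net := Net.cons 64 um11_0 (Net.cons 32 um11_1 (Net.cons 16 um11_2 (Net.cons 8 um11_3 (Net.cons 4 um11_4 (Net.cons 2 um11_5 (Net.cons 1 um11_6 (Net.cons 2 um11_7 (Net.cons 4 um11_8 (Net.cons 8 um11_9 (Net.cons 16 um11_10 (Net.cons 32 um11_11 (Net.cons 64 um11_12 (Net.nil)))))))))))))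

def um12_0 : Nat := nat_lit 0x20400001000009
def um12_1 : Nat := nat_lit 0x4400000000ba106d25
def um12_2 : Nat := nat_lit 0x200000008000009944000000fc
def um12_3 : Nat := nat_lit 0x4000100000024004600510064
def um12_4 : Nat := nat_lit 0x40000010002040500060108020b
def um12_5 : Nat := nat_lit 0x10001000000033330333320301
def um12_6 : Nat := nat_lit 0x10004000000540001010505501
def um12_7 : Nat := nat_lit 0x10001000000000000000000001
def um12_8 : Nat := nat_lit 0x100000400000601080202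
def um12_9 : Nat := nat_lit 0x40001000000a400c600510040
def um12_10 : Nat := nat_lit 0x2000000080000039c4000000fc
def um12_11 : Nat := nat_lit 0x44000000001a116d61
def um12_12 : Nat := nat_lit 0x20400001000009
def un12 : Net := Net.cons 64 um12_0 (Net.cons 32 um12_1 (Net.cons 16 um12_2 (Net.cons 8 um12_3 (Net.cons 4 um12_4 (Net.cons 2 um12_5 (Net.cons 1 um12_6 (Net.cons 2 um12_7 (Net.cons 4 um12_8 (Net.cons 8 um12_9 (Net.cons 16 um12_10 (Net.cons 32 um12_11 (Net.cons 64 um12_12 (Net.nil)))))))))))))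

def M16 : Nat := nat_lit 0x158fcffff874ffe4f2

def W22 : List (List Nat) := [[23], [25]]

def M24 : Nat := nat_lit 0x40002000060a000104

def U : Tab := ⟨[n0, n1, n2, n3, n4, n5, n6, n7, un8, un9, un10, un11, un12], [⟨0, false, 0, 0, []⟩, ⟨0, false, 0, 0, []⟩, ⟨0, true, 0, 0, []⟩, ⟨1, false, 0, 0, []⟩, ⟨1, true, 0, 0, []⟩, ⟨2, false, 0, 0, []⟩, ⟨2, true, 0, 0, []⟩, ⟨3, false, 0, 0, []⟩, ⟨3, true, 0, 0, []⟩, ⟨4, false, 0, 0, []⟩, ⟨4, true, 0, 0, []⟩, ⟨5, false, 0, 0, []⟩, ⟨5, true, 0, 0, []⟩, ⟨6, false, 0, 0, []⟩, ⟨6, true, 0, 0, []⟩, ⟨7, false, 0, 0, []⟩, ⟨7, true, 0, 0, []⟩, ⟨8, false, 0, 0, []⟩, ⟨8, true, 0, 0, []⟩, ⟨9, false, 0, 0, []⟩, ⟨9, true, 0, 0, []⟩, ⟨10, false, 0, 0, []⟩, ⟨10, true, 0, 0, []⟩, ⟨11, false, 0, 0, []⟩, ⟨11, true, 0, 0, []⟩, ⟨12, false, 0, 0, []⟩, ⟨12, true, 0, 0, []⟩]⟩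

end Cfsg.Agent.Spor.C3VM.L
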